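import Mathlib.Topology.Constructible
import Mathlib.Data.Finite.Sum
import Mathlib.Data.Set.Finite.Basic

/-!
# Constructible subsets of qcqs spaces are compact
-/

set_option autoImplicit false

open Topology

namespace Groth.Agent.Nis27

variable {α : Type*} [TopologicalSpace α]

/-- The atom attached to a set of indices. -/
def atom {ι : Type*} (O : ι → Set α) (S : Set ι) : Set α := {x | ∀ i, x ∈ O i ↔ i ∈ S}

theorem mem_atom_self {ι : Type*} (O : ι → Set α) (x : α) : x ∈ atom O {i | x ∈ O i} :=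
  fun _ => Iff.rfl

theorem exists_atoms [CompactSpace α] [QuasiSeparatedSpace α] {E : Set α}
    (hE : Topology.IsConstructible E) :
    ∃ (ι : Type) (_ : Finite ι) (O : ι → Set α), (∀ i, IsOpen (O i) ∧ IsCompact (O i)) ∧
      ∃ P : Set (Set ι), E = {x | {i | x ∈ O i} ∈ P} := by
  induction hE using IsConstructible.empty_union_induction with
  | open_retrocompact U hUo hUc =>
    refine ⟨Unit, inferInstance, fun _ => U, fun _ => ⟨hUo, hUc.isCompact⟩, {S | () ∈ S}, ?_⟩
    rfl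
  | union s _ t _ hs ht =>
    obtain ⟨ι, _, O, hO, P, rfl⟩ := hs
    obtain ⟨κ, _, O', hO', P', rfl⟩ := ht
    refine ⟨ι ⊕ κ, inferInstance, Sum.elim O O', fun i => by cases i <;> simp [hO, hO'],
      {S | Sum.inl ⁻¹' S ∈ P ∨ Sum.inr ⁻¹' S ∈ P'}, ?_⟩
    rfl
  | compl s _ hs =>
    obtain ⟨ι, _, O, hO, P, rfl⟩ := hs
    exact ⟨ι, inferInstance, O, hO, Pᶜ, rfl⟩

theorem isCompact_constructible [CompactSpace α] [QuasiSeparatedSpace α] {E : Set α}
    (hE : Topology.IsConstructible E) : IsCompact E := by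
  classical
  obtain ⟨ι, _, O, hO, P, rfl⟩ := exists_atoms hE
  haveI := Fintype.ofFinite ι
  have : {x | {i | x ∈ O i} ∈ P} = ⋃ S : P, atom O S.1 := by
    ext x
    constructor
    · exact fun h => Set.mem_iUnion.2 ⟨⟨_, h⟩, mem_atom_self O x⟩
    · intro h
      obtain ⟨⟨S, hS⟩, hx⟩ := Set.mem_iUnion.1 h
      show {i | x ∈ O i} ∈ P
      rwa [show {i | x ∈ O i} = S from Set.ext hx]
  rw [this]
  refine isCompact_iUnion fun S => ?_
  have e : atom O S.1 = ⋂₀ ((fun i => O i) '' S.1) \ ⋃ i ∈ S.1ᶜ, O i := by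
    ext x
    simp only [atom, Set.sInter_image, Set.mem_sdiff, Set.mem_iInter, Set.mem_iUnion, Set.mem_compl_iff,
      not_exists]
    exact ⟨fun h => ⟨fun i hi => (h i).2 hi, fun i hi hx => hi ((h i).1 hx)⟩,
      fun h i => ⟨fun hx => by_contra fun hi => h.2 i hi hx, h.1 i⟩⟩
  rw [e]
  exact (QuasiSeparatedSpace.isCompact_sInter (Set.toFinite _)
    (by rintro t ⟨i, -, rfl⟩; exact Or.inl (hO i).1) (by rintro t ⟨i, -, rfl⟩; exact (hO i).2)).diff
    (isOpen_biUnion fun i _ => (hO i).1)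

end Groth.Agent.Nis27
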