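import Groth.Prelude.Def_W4c5algebraiztannakaNis
import Groth.Agent.Lib.Nis27.ConstrCompact
import Mathlib.AlgebraicGeometry.Morphisms.FinitePresentation
import Mathlib.AlgebraicGeometry.IdealSheaf.Subscheme
import Mathlib.AlgebraicGeometry.PullbackCarrier

/-!
# Nisnevich covers of bounded length
-/

set_option autoImplicit false
universe u

open CategoryTheory CategoryTheory.Limits AlgebraicGeometry Topology

noncomputable section

namespace Groth.Agent.Nis27

open W4c5algebraiztannaka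

variable {U Y : Scheme.{u}} {f : U ⟶ Y}

/-- A section over an open restricts to a section over any of its closed subsets. -/
theorem hasSectOver_of_open (O : Y.Opens) (s : (O : Scheme.{u}) ⟶ U) (hs : s ≫ f = O.ι) {C : Set Y}
    (hC : IsClosed C) : HasSectOver f ((O : Set Y) ∩ C) := by
  let I : (O : Scheme.{u}).IdealSheafData :=
    Scheme.IdealSheafData.vanishingIdeal ⟨O.ι ⁻¹' C, hC.preimage O.ι.continuous⟩
  refine ⟨I.subscheme, I.subschemeι ≫ O.ι, I.subschemeι ≫ s, inferInstance, ?_, by rw [Category.assoc, hs]⟩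
  have h : (fun t => (I.subschemeι ≫ O.ι) t) = O.ι ∘ I.subschemeι := by
    funext t
    exact Scheme.Hom.comp_apply I.subschemeι O.ι t
  rw [h, Set.range_comp, Scheme.IdealSheafData.range_subschemeι]
  rw [show (I.support : Set (O : Scheme.{u})) = O.ι ⁻¹' C from Scheme.IdealSheafData.coe_support_vanishingIdeal _]
  rw [Set.image_preimage_eq_inter_range, Scheme.Opens.range_ι, Set.inter_comm]

theorem isNisCoverLen_sigma_desc_opens [CompactSpace U] [QuasiSeparatedSpace U] (k : ℕ) (V : Fin k → U.Opens)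
    (hV : ∀ i, IsCompact (V i : Set U)) (hcov : ⨆ i, V i = ⊤) :
    IsNisCoverLen (Sigma.desc (fun i => (V i).ι) : (∐ fun i => ((V i : U.Opens) : Scheme.{u})) ⟶ U) k := by
  refine ⟨IsZariskiLocalAtSource.sigmaDesc (P := @Etale) fun i => inferInstance,
    fun j => (⋃ i ∈ {i : Fin k | j.val ≤ i.val}, (V i : Set U))ᶜ, ?_, ?_, ?_, fun j => ⟨?_, ?_⟩, fun j => ?_⟩
  · rw [Set.compl_empty_iff, Set.eq_univ_iff_forall]
    intro x
    obtain ⟨i, hi⟩ := TopologicalSpace.Opens.mem_iSup.1 (hcov.ge (trivial : x ∈ (⊤ : U.Opens)))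
    exact Set.mem_iUnion₂.2 ⟨i, Nat.zero_le _, hi⟩
  · rw [Set.compl_univ_iff]
    refine Set.eq_empty_iff_forall_notMem.2 fun x hx => ?_
    obtain ⟨i, hi, -⟩ := Set.mem_iUnion₂.1 hx
    exact absurd (show k ≤ i.val from hi) (not_le.2 i.isLt)
  · intro a b hab
    exact Set.compl_subset_compl.2 (Set.biUnion_subset_biUnion_left fun i (hi : b.val ≤ i.val) => show a.val ≤ i.val from le_trans hab hi)
  · exact (isOpen_biUnion fun i _ => (V i).isOpen).isClosed_compl
  · exact (IsConstructible.biUnion (Set.toFinite _) fun i _ => (hV i).isConstructible (V i).isOpen).compl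
  · have hW : ((⋃ i ∈ {i : Fin k | j.succ.val ≤ i.val}, (V i : Set U))ᶜ \
        (⋃ i ∈ {i : Fin k | j.castSucc.val ≤ i.val}, (V i : Set U))ᶜ) =
        (V j : Set U) ∩ (⋃ i ∈ {i : Fin k | j.succ.val ≤ i.val}, (V i : Set U))ᶜ := by
      ext x
      simp only [Set.mem_sdiff, Set.mem_compl_iff, not_not, Set.mem_inter_iff, Set.mem_iUnion, Set.mem_ofPred_eq,
        exists_prop, Fin.val_succ, Fin.val_castSucc]
      constructor
      · rintro ⟨h1, i, hi, hx⟩
        rcases hi.eq_or_lt with h | h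
        · exact ⟨(Fin.ext h : j = i) ▸ hx, h1⟩
        · exact absurd ⟨i, h, hx⟩ h1
      · exact fun ⟨h1, h2⟩ => ⟨h2, j, le_rfl, h1⟩
    rw [hW]
    exact hasSectOver_of_open (V j) (Sigma.ι (fun i => ((V i : U.Opens) : Scheme.{u})) j) (Sigma.ι_desc _ _)
      (isOpen_biUnion fun i _ => (V i).isOpen).isClosed_compl

theorem isNisCoverLen_pullback_snd {Y' : Scheme.{u}} (g : Y' ⟶ Y) {m : ℕ} (hf : IsNisCoverLen f m) :
    IsNisCoverLen (pullback.snd f g) m := by
  obtain ⟨hEt, Z, h0, h1, hmono, hZ, hs⟩ := hf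
  refine ⟨inferInstance, fun k => g ⁻¹' Z k, by simp [h0], by simp [h1], fun a b h => Set.preimage_mono (hmono h),
    fun k => ⟨(hZ k).1.preimage g.continuous, g.isConstructible_preimage (hZ k).2⟩, fun k => ?_⟩
  obtain ⟨T, i, s, hi, hr, hsf⟩ := hs k
  haveI := hi
  refine ⟨pullback i g, pullback.snd i g,
    pullback.lift (pullback.fst i g ≫ s) (pullback.snd i g) (by rw [Category.assoc, hsf, pullback.condition]),
    inferInstance, ?_, pullback.lift_snd _ _ _⟩
  have := Scheme.Pullback.range_snd i g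
  rw [show (fun t => pullback.snd i g t) = ⇑(pullback.snd i g) from rfl, this]
  exact congrArg (g ⁻¹' ·) hr

/-- The image of a constructible subset under an immersion with constructible image is constructible. -/
theorem isConstructible_image {T : Scheme.{u}} [CompactSpace Y] [QuasiSeparatedSpace Y] (g : T ⟶ Y) [IsImmersion g]
    {O : Y.Opens} (hOc : IsCompact (O : Set Y)) {C : Set Y} (hC : IsClosed C) (hC' : IsConstructible C)
    (hr : Set.range (fun t => g t) = (O : Set Y) ∩ C) {s : Set T} (hs : IsConstructible s) :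
    IsConstructible (g '' s) := by
  have hrO : Set.range g ⊆ (O : Set Y) := hr ▸ Set.inter_subset_left
  have hsub : Set.range g ⊆ Set.range O.ι := by rwa [Scheme.Opens.range_ι]
  let g' : T ⟶ O := IsOpenImmersion.lift O.ι g hsub
  have hg' : ∀ t, O.ι (g' t) = g t := fun t =>
    (Scheme.Hom.comp_apply g' O.ι t).symm.trans
      (congrArg (fun h : T ⟶ Y => h t) (IsOpenImmersion.lift_fac O.ι g hsub))
  haveI : CompactSpace O := isCompact_iff_compactSpace.1 hOc
  have hemb : IsEmbedding g' := by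
    refine IsEmbedding.of_comp g'.continuous O.ι.continuous ?_
    rw [show O.ι ∘ g' = ⇑g from funext hg']
    exact g.isEmbedding
  have hrange : Set.range g' = O.ι ⁻¹' C := by
    ext y
    constructor
    · rintro ⟨t, rfl⟩
      show O.ι (g' t) ∈ C
      rw [hg']
      exact (hr.le ⟨t, rfl⟩).2
    · intro hy
      obtain ⟨t, ht⟩ := hr.ge ⟨(Scheme.Opens.range_ι O).le ⟨y, rfl⟩, hy⟩
      exact ⟨t, O.ι.isEmbedding.injective ((hg' t).trans ht)⟩
  have hcl : IsClosedEmbedding g' := ⟨hemb, hrange ▸ hC.preimage O.ι.continuous⟩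
  haveI : QuasiSeparatedSpace O := QuasiSeparatedSpace.of_isOpenEmbedding O.ι.isOpenEmbedding
  have hcons : IsConstructible (O.ι ⁻¹' C : Set O) := hC'.preimage_of_isOpenEmbedding O.ι.isOpenEmbedding
  have hcomp : IsRetrocompact (Set.range g')ᶜ :=
    (isCompact_constructible (hrange ▸ hcons).compl).isRetrocompact hcl.isClosed_range.isOpen_compl
  have h1 := hs.image_of_isClosedEmbedding hcl hcomp
  have h2 : g '' s = O.ι '' (g' '' s) := by
    rw [← Set.image_comp]
    exact Set.image_congr fun t _ => (hg' t).symm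
  rw [h2]
  refine h1.image_of_isOpenEmbedding O.ι.isOpenEmbedding ?_
  rw [Scheme.Opens.range_ι]
  exact hOc.isRetrocompact O.isOpen

theorem isNisCoverLen_comp {Y₁ Y₂ Y₃ : Scheme.{u}} (g₁ : Y₁ ⟶ Y₂) (g₂ : Y₂ ⟶ Y₃) [CompactSpace Y₃]
    [QuasiSeparatedSpace Y₃] {m₁ m₂ : ℕ} (h₁ : IsNisCoverLen g₁ m₁) (h₂ : IsNisCoverLen g₂ m₂) :
    IsNisCoverLen (g₁ ≫ g₂) (m₁ * m₂) := by
  obtain ⟨he₁, Z', hZ'0, hZ'1, hZ'm, hZ', hs₁⟩ := h₁
  obtain ⟨he₂, Z, hZ0, hZ1, hZm, hZ, hs₂⟩ := h₂
  choose T i s hi hr hsf using hs₂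
  let clamp : ℕ → Fin (m₁ + 1) := fun b => ⟨min b m₁, Nat.lt_succ_of_le (min_le_right _ _)⟩
  let zc : ℕ → Fin (m₂ + 1) := fun a => ⟨min a m₂, Nat.lt_succ_of_le (min_le_right _ _)⟩
  let E : ℕ → ℕ → Set Y₃ := fun a b =>
    if ha : a < m₂ then i ⟨a, ha⟩ '' (s ⟨a, ha⟩ ⁻¹' Z' (clamp b)) else ∅
  let W : ℕ → Set Y₃ := fun j => Z (zc (j / m₁)) ∪ E (j / m₁) (j % m₁)
  have hzc : ∀ {a : ℕ} (ha : a < m₂), zc a = (⟨a, ha⟩ : Fin m₂).castSucc ∧ zc (a + 1) = (⟨a, ha⟩ : Fin m₂).succ :=
    fun {a} ha => ⟨Fin.ext (min_eq_left ha.le), Fin.ext (min_eq_left ha)⟩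
  have hri : ∀ (a : Fin m₂) t, i a t ∈ Z a.succ ∧ i a t ∉ Z a.castSucc := fun a t => (hr a).le ⟨t, rfl⟩
  have hE_sub : ∀ a b, E a b ⊆ Z (zc (a + 1)) := fun a b => by
    simp only [E]
    split_ifs with ha
    · rintro _ ⟨t, -, rfl⟩
      rw [(hzc ha).2]
      exact (hri _ t).1
    · exact Set.empty_subset _
  have hE0 : ∀ a, E a 0 = ∅ := fun a => by
    simp only [E]
    split_ifs with ha
    · rw [show clamp 0 = 0 from Fin.ext (Nat.zero_min m₁), hZ'0, Set.preimage_empty, Set.image_empty]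
    · rfl
  have hEfull : ∀ a, Z (zc (a + 1)) = Z (zc a) ∪ E a m₁ := fun a => by
    simp only [E]
    split_ifs with ha
    · rw [show clamp m₁ = Fin.last m₁ from Fin.ext (min_self m₁), hZ'1, Set.preimage_univ, Set.image_univ]
      rw [show Set.range (i ⟨a, ha⟩) = Z (⟨a, ha⟩ : Fin m₂).succ \ Z (⟨a, ha⟩ : Fin m₂).castSucc from hr _,
        (hzc ha).1, (hzc ha).2, Set.union_sdiff_self]
      exact (Set.union_eq_self_of_subset_left (hZm (Fin.castSucc_le_succ _))).symm
    · rw [Set.union_empty, show zc (a + 1) = zc a from Fin.ext ((min_eq_right ((not_lt.1 ha).trans (Nat.le_succ a))).trans (min_eq_right (not_lt.1 ha)).symm)]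
  have hEmono : ∀ a {b b' : ℕ}, b ≤ b' → E a b ⊆ E a b' := fun a b b' hb => by
    simp only [E]
    split_ifs with ha
    · exact Set.image_mono (Set.preimage_mono (hZ'm (min_le_min hb le_rfl)))
    · exact le_rfl
  have hWsucc : ∀ j, 0 < m₁ → W (j + 1) = Z (zc (j / m₁)) ∪ E (j / m₁) (j % m₁ + 1) := fun j hm => by
    have hlt := Nat.mod_lt j hm
    rcases (Nat.succ_le_of_lt hlt).eq_or_lt with h | h
    · have h' : j % m₁ + 1 = m₁ := h
      have hj : j + 1 = m₁ * (j / m₁ + 1) := by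
        calc j + 1 = m₁ * (j / m₁) + j % m₁ + 1 := by rw [Nat.div_add_mod]
          _ = m₁ * (j / m₁ + 1) := by rw [Nat.mul_succ, add_assoc, h']
      simp only [W]
      rw [hj, Nat.mul_div_cancel_left _ hm, Nat.mul_mod_right, hE0, Set.union_empty, h', ← hEfull]
    · have hj : j + 1 = j % m₁ + 1 + m₁ * (j / m₁) := by have := Nat.mod_add_div j m₁; omega
      simp only [W]
      rw [show (j + 1) / m₁ = j / m₁ from (congrArg (· / m₁) hj).trans (by rw [Nat.add_mul_div_left _ _ hm, Nat.div_eq_of_lt h, zero_add]),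
        show (j + 1) % m₁ = j % m₁ + 1 from (congrArg (· % m₁) hj).trans (by rw [Nat.add_mul_mod_self_left, Nat.mod_eq_of_lt h])]
  have hclosed : ∀ a b, IsClosed (Z (zc a) ∪ E a b) := fun a b => by
    simp only [E]
    split_ifs with ha
    · obtain ⟨C, hC, hCe⟩ := ((i ⟨a, ha⟩).isEmbedding).isInducing.isClosed_iff.1
        ((hZ' (clamp b)).1.preimage (s ⟨a, ha⟩).continuous)
      have h : Z (zc a) ∪ i ⟨a, ha⟩ '' (s ⟨a, ha⟩ ⁻¹' Z' (clamp b)) = Z (zc a) ∪ (C ∩ Z (zc (a + 1))) := by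
        rw [← hCe, Set.image_preimage_eq_inter_range,
          show Set.range (i ⟨a, ha⟩) = Z (⟨a, ha⟩ : Fin m₂).succ \ Z (⟨a, ha⟩ : Fin m₂).castSucc from hr _,
          (hzc ha).1, (hzc ha).2]
        ext x
        simp only [Set.mem_union, Set.mem_inter_iff, Set.mem_sdiff]
        tauto
      rw [h]
      exact (hZ _).1.union (hC.inter (hZ _).1)
    · rw [Set.union_empty]; exact (hZ _).1
  have hcons : ∀ a b, IsConstructible (Z (zc a) ∪ E a b) := fun a b => by
    refine (hZ _).2.union ?_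
    simp only [E]
    split_ifs with ha
    · haveI := hi ⟨a, ha⟩
      refine isConstructible_image (i ⟨a, ha⟩) (O := ⟨(Z (⟨a, ha⟩ : Fin m₂).castSucc)ᶜ, (hZ _).1.isOpen_compl⟩)
        (isCompact_constructible (hZ _).2.compl) (C := Z (⟨a, ha⟩ : Fin m₂).succ) (hZ _).1 (hZ _).2 ((hr _).trans ?_)
        ((s ⟨a, ha⟩).isConstructible_preimage (hZ' (clamp b)).2)
      rw [Set.sdiff_eq, Set.inter_comm]
      rfl
    · exact IsConstructible.empty
  have hWmono : Monotone W := monotone_nat_of_le_succ fun j => by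
    rcases Nat.eq_zero_or_pos m₁ with h0 | hm
    · subst h0
      simp only [W, Nat.div_zero]
      rw [Nat.mod_zero, Nat.mod_zero]
      exact Set.union_subset_union_right _ (hEmono _ (Nat.le_succ j))
    · rw [hWsucc j hm]
      exact Set.union_subset_union_right _ (hEmono _ (Nat.le_succ _))
  refine ⟨inferInstance, fun j => W j.val, ?_, ?_, fun a b hab => hWmono hab, fun j => ⟨hclosed _ _, hcons _ _⟩, fun j => ?_⟩
  · show W 0 = ∅
    simp only [W, Nat.zero_div, Nat.zero_mod, hE0, Set.union_empty]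
    rw [show zc 0 = 0 from Fin.ext (Nat.zero_min m₂), hZ0]
  · show W (m₁ * m₂) = Set.univ
    rcases Nat.eq_zero_or_pos m₁ with h0 | hm
    · subst h0
      -- a cover of length zero is the empty cover
      haveI : IsEmpty Y₂ := by
        refine ⟨fun y => ?_⟩
        have : y ∈ Z' (0 : Fin 1) := by rw [show (0 : Fin 1) = Fin.last 0 from rfl, hZ'1]; trivial
        rw [hZ'0] at this
        exact this
      have hstep : ∀ a : Fin m₂, Z a.succ = Z a.castSucc := fun a => by
        haveI : IsEmpty (T a) := Function.isEmpty (fun t => s a t)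
        have h := hr a
        rw [Set.range_eq_empty] at h
        exact le_antisymm (Set.sdiff_eq_empty.1 h.symm) (hZm (Fin.castSucc_le_succ a))
      have hall : ∀ a : Fin (m₂ + 1), Z a = Z 0 := fun a => by
        induction a using Fin.induction with
        | zero => rfl
        | succ a ih => rw [hstep a, ih]
      rw [← hZ1, hall (Fin.last m₂), ← hall (zc ((0 * m₂) / 0))]
      simp only [W, Nat.zero_mul, Nat.zero_mod, hE0, Set.union_empty]
    · simp only [W]
      rw [Nat.mul_div_cancel_left _ hm, Nat.mul_mod_right, hE0, Set.union_empty,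
        show zc m₂ = Fin.last m₂ from Fin.ext (min_self m₂), hZ1]
  · have hj := j.isLt
    have hm : 0 < m₁ := Nat.pos_of_ne_zero fun h => absurd hj (by simp [h])
    have ha : j.val / m₁ < m₂ := Nat.div_lt_of_lt_mul hj
    have hb : j.val % m₁ < m₁ := Nat.mod_lt _ hm
    obtain ⟨T', i', s', hi', hr', hsf'⟩ := hs₁ ⟨j.val % m₁, hb⟩
    haveI := hi'
    haveI := hi ⟨j.val / m₁, ha⟩
    refine ⟨pullback (s ⟨j.val / m₁, ha⟩) i', pullback.fst _ _ ≫ i ⟨j.val / m₁, ha⟩, pullback.snd _ _ ≫ s',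
      inferInstance, ?_, ?_⟩
    · show _ = W (j.val + 1) \ W j.val
      rw [hWsucc _ hm]
      have hcomp : (fun t => (pullback.fst (s ⟨j.val / m₁, ha⟩) i' ≫ i ⟨j.val / m₁, ha⟩) t) =
          i ⟨j.val / m₁, ha⟩ ∘ pullback.fst (s ⟨j.val / m₁, ha⟩) i' := by
        funext t
        exact Scheme.Hom.comp_apply _ _ t
      rw [hcomp, Set.range_comp, Scheme.Pullback.range_fst]
      rw [show Set.range i' = _ from hr', Set.preimage_sdiff, Set.image_sdiff (i _).isEmbedding.injective]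
      simp only [W, E, dif_pos ha]
      rw [show clamp (j.val % m₁ + 1) = (⟨j.val % m₁, hb⟩ : Fin m₁).succ from Fin.ext (min_eq_left hb),
        show clamp (j.val % m₁) = (⟨j.val % m₁, hb⟩ : Fin m₁).castSucc from Fin.ext (min_eq_left hb.le)]
      rw [Set.union_sdiff_distrib, Set.sdiff_eq_empty.2 Set.subset_union_left, Set.empty_union,
        ← Set.sdiff_sdiff]
      refine congrArg (· \ _) (Set.Subset.antisymm (fun x hx => ⟨hx, ?_⟩) fun x hx => hx.1)
      obtain ⟨t, -, rfl⟩ := hx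
      rw [(hzc ha).1]
      exact (hri _ t).2
    · rw [Category.assoc, reassoc_of% hsf', ← pullback.condition_assoc, hsf]

end Groth.Agent.Nis27
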