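import Groth.Prelude.Def_FlatMod2
import Groth.Agent.Lib.TensorMod.Invertible
import Groth.Agent.Lib.ModM1.PullSpec
import Mathlib.AlgebraicGeometry.Modules.Tilde
import Mathlib.AlgebraicGeometry.IdealSheaf.Subscheme
import Mathlib.RingTheory.Nakayama
import Mathlib.RingTheory.Support
import Mathlib.RingTheory.Spectrum.Prime.RingHom
import Mathlib.RingTheory.Spectrum.Prime.Topology

/-!
# Generators of finite modules from generators on strata
-/

set_option autoImplicit false
universe u

open CategoryTheory CategoryTheory.Limits AlgebraicGeometry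

noncomputable section

namespace Groth.Agent.Nis27

variable {R : CommRingCat.{u}}

theorem exists_span_eq_top_of_epi_tilde {N : ModuleCat.{u} R} {n : ℕ}
    (φ : FlatMod.freeMod (Spec R) n ⟶ tilde N) [Epi φ] :
    ∃ s : Fin n → N, Submodule.span R (Set.range s) = ⊤ := by
  haveI : (tilde.functor R).IsLeftAdjoint := ⟨_, ⟨tilde.adjunction (R := R)⟩⟩
  let e : (tilde.functor R).obj (∐ fun _ : Fin n => ModuleCat.of R R) ≅ FlatMod.freeMod (Spec R) n :=
    PreservesCoproduct.iso (tilde.functor R) _ ≪≫ Sigma.mapIso fun _ => tildeSelf (R := R)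
  let ψ := (tilde.fullyFaithfulFunctor (R := R)).preimage (e.hom ≫ φ)
  haveI : (tilde.functor R).Faithful := (tilde.fullyFaithfulFunctor (R := R)).faithful
  haveI : Epi ψ := (tilde.functor R).epi_of_epi_map (by
    rw [Functor.FullyFaithful.map_preimage]
    exact epi_comp e.hom φ)
  let s : Fin n → N := fun i => (Sigma.ι (fun _ : Fin n => ModuleCat.of R R) i ≫ ψ) (1 : R)
  refine ⟨s, ?_⟩
  let χ : N ⟶ ModuleCat.of R (N ⧸ Submodule.span R (Set.range s)) := ModuleCat.ofHom (Submodule.mkQ _)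
  have h : ψ ≫ χ = 0 := by
    refine Sigma.hom_ext _ _ fun i => ?_
    rw [comp_zero]
    refine ModuleCat.hom_ext (LinearMap.ext_ring ?_)
    exact (Submodule.Quotient.mk_eq_zero _).2 (Submodule.subset_span ⟨i, rfl⟩)
  have h2 : χ = 0 := by rw [← cancel_epi ψ, h, comp_zero]
  rw [eq_top_iff]
  intro x _
  exact (Submodule.Quotient.mk_eq_zero _).1 (congrArg (fun t : N ⟶ _ => t x) h2)

theorem exists_lift_generators (K : Ideal R) (M : ModuleCat.{u} R) [Module.Finite R M] {n : ℕ}
    (φ : FlatMod.freeMod (Spec (CommRingCat.of (R ⧸ K))) n ⟶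
      (Scheme.Modules.pullback (Spec.map (CommRingCat.ofHom (Ideal.Quotient.mk K)))).obj (tilde M)) [Epi φ] :
    ∃ s : Fin n → M, ∀ p : PrimeSpectrum R, K ≤ p.asIdeal →
      p ∉ Module.support R (M ⧸ Submodule.span R (Set.range s)) := by
  let ψ : R ⟶ CommRingCat.of (R ⧸ K) := CommRingCat.ofHom (Ideal.Quotient.mk K)
  obtain ⟨t, ht⟩ := exists_span_eq_top_of_epi_tilde (R := CommRingCat.of (R ⧸ K)) (φ ≫ (M1.tildePullbackObjIso ψ M).hom)
  let M' : ModuleCat.{u} (R ⧸ K) := ModuleCat.of (R ⧸ K) (M ⧸ (K • ⊤ : Submodule R M))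
  let q' : M ⟶ (ModuleCat.restrictScalars ψ.hom).obj M' := ModuleCat.ofHom
    { toFun := fun m => Submodule.Quotient.mk m
      map_add' := fun _ _ => rfl
      map_smul' := fun _ _ => rfl }
  let σ : (ModuleCat.extendScalars ψ.hom).obj M ⟶ M' :=
    ((ModuleCat.extendRestrictScalarsAdj ψ.hom).homEquiv M M').symm q'
  have hq' : ∀ m : M, (((ModuleCat.extendRestrictScalarsAdj ψ.hom).homEquiv M M') σ) m = Submodule.Quotient.mk m := fun m =>
    congrArg (fun t : M ⟶ (ModuleCat.restrictScalars ψ.hom).obj M' => t m) (Equiv.apply_symm_apply _ q')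
  have hσ : Function.Surjective σ := fun x => by
    obtain ⟨m, rfl⟩ := Submodule.mkQ_surjective _ x
    refine ⟨(((ModuleCat.extendRestrictScalarsAdj ψ.hom).unit.app M) m), ?_⟩
    refine Eq.trans ?_ (hq' m)
    rw [Adjunction.homEquiv_unit]
    rfl
  have ht' : Submodule.span (R ⧸ K) (Set.range fun i => σ (t i)) = ⊤ := by
    have h := congrArg (Submodule.map σ.hom) ht
    rw [Submodule.map_span, Submodule.map_top, LinearMap.range_eq_top.2 hσ, ← Set.range_comp] at h
    exact h
  choose s hs using fun i => Submodule.mkQ_surjective (K • ⊤ : Submodule R M) (σ (t i))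
  refine ⟨s, fun p hp => ?_⟩
  let S := Submodule.span R (Set.range s)
  have hsup : S ⊔ K • ⊤ = ⊤ := by
    rw [eq_top_iff]
    intro m _
    have hm : (Submodule.Quotient.mk m : M ⧸ (K • ⊤ : Submodule R M)) ∈
        (Submodule.span (R ⧸ K) (Set.range fun i => σ (t i))).restrictScalars R :=
      ht'.ge (show (Submodule.Quotient.mk m : M ⧸ (K • ⊤ : Submodule R M)) ∈ (⊤ : Submodule (R ⧸ K) _) from trivial)
    rw [Submodule.restrictScalars_span _ _ Ideal.Quotient.mk_surjective] at hm
    have h3 : (Submodule.Quotient.mk m : M ⧸ (K • ⊤ : Submodule R M)) ∈ S.map (Submodule.mkQ _) := by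
      rw [Submodule.map_span, ← Set.range_comp, show (Submodule.mkQ (K • ⊤ : Submodule R M)) ∘ s = fun i => σ (t i) from funext hs]
      exact hm
    obtain ⟨m', hm', h4⟩ := h3
    exact Submodule.mem_sup.2 ⟨m', hm', m - m', (Submodule.Quotient.eq _).1 h4.symm, add_sub_cancel m' m⟩
  haveI : Module.Finite R (M ⧸ S) := Module.Finite.quotient R S
  have htop : (⊤ : Submodule R (M ⧸ S)) ≤ K • ⊤ := by
    intro x _
    obtain ⟨m, rfl⟩ := Submodule.mkQ_surjective S x
    have h5 := Submodule.mem_map_of_mem (f := S.mkQ) (hsup.ge (show m ∈ (⊤ : Submodule R M) from trivial))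
    rw [Submodule.map_sup, Submodule.mkQ_map_self, bot_sup_eq, Submodule.map_smul''] at h5
    exact Submodule.smul_mono le_rfl le_top h5
  obtain ⟨r, hr1, hr2⟩ := Submodule.exists_sub_one_mem_and_smul_eq_zero_of_fg_of_le_smul K ⊤ Module.Finite.fg_top htop
  rw [Module.mem_support_iff_of_finite]
  intro hle
  have hrp : r ∈ p.asIdeal := hle (Module.mem_annihilator.2 fun x => hr2 x trivial)
  have := p.asIdeal.sub_mem hrp (hp hr1)
  rw [sub_sub_cancel] at this
  exact p.isPrime.ne_top ((Ideal.eq_top_iff_one _).2 this)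

theorem exists_generators_on_closed {U : Scheme.{u}} (f : U ⟶ Spec R) (M : ModuleCat.{u} R) [Module.Finite R M] {N : ℕ}
    (φ : FlatMod.freeMod U N ⟶ (Scheme.Modules.pullback f).obj (tilde M)) [Epi φ] {T : Scheme.{u}} (g : T ⟶ Spec R)
    [IsImmersion g] (σ : T ⟶ U) (hσ : σ ≫ f = g) {C : Set (PrimeSpectrum R)} (hC : IsClosed C)
    (hCT : C ⊆ Set.range (fun t => g t)) :
    ∃ s : Fin N → M, Module.support R (M ⧸ Submodule.span R (Set.range s)) ∩ C = ∅ := by
  let K := PrimeSpectrum.vanishingIdeal C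
  let B := R ⧸ K
  let ψ : R ⟶ CommRingCat.of B := CommRingCat.ofHom (Ideal.Quotient.mk K)
  have hrange : Set.range (Spec.map ψ) = C := by
    show Set.range (PrimeSpectrum.comap (Ideal.Quotient.mk K)) = C
    rw [range_comap_of_surjective _ _ Ideal.Quotient.mk_surjective, Ideal.mk_ker,
      PrimeSpectrum.zeroLocus_vanishingIdeal_eq_closure, hC.closure_eq]
  haveI : IsReduced (CommRingCat.of B) := (Ideal.isRadical_iff_quotient_reduced K).1 (PrimeSpectrum.isRadical_vanishingIdeal C)
  have hsurj : Set.range (pullback.fst (Spec.map ψ) g) = Set.univ := by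
    rw [Scheme.Pullback.range_fst, Set.preimage_eq_univ_iff, hrange]
    exact hCT
  haveI : IsClosedImmersion (pullback.fst (Spec.map ψ) g) := .of_isPreimmersion _ (hsurj ▸ isClosed_univ)
  haveI : Surjective (pullback.fst (Spec.map ψ) g) := ⟨Set.range_eq_univ.1 hsurj⟩
  haveI : IsIso (pullback.fst (Spec.map ψ) g) := isIso_of_isClosedImmersion_of_surjective _
  let h : Spec (CommRingCat.of B) ⟶ U := inv (pullback.fst (Spec.map ψ) g) ≫ pullback.snd _ _ ≫ σ
  have hh : h ≫ f = Spec.map ψ := by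
    simp only [h, Category.assoc, hσ]
    rw [IsIso.inv_comp_eq, pullback.condition]
  let F := Scheme.Modules.pullback h
  haveI : F.PreservesEpimorphisms := Functor.preservesEpimorphisms_of_adjunction (Scheme.Modules.pullbackPushforwardAdjunction h)
  let φ' : FlatMod.freeMod (Spec (CommRingCat.of B)) N ⟶ (Scheme.Modules.pullback (Spec.map ψ)).obj (tilde M) :=
    (M2.freeModPullbackIso h N).inv ≫ F.map φ ≫ (Scheme.Modules.pullbackComp h f).hom.app (tilde M) ≫
      (Scheme.Modules.pullbackCongr hh).hom.app (tilde M)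
  haveI : Epi φ' := inferInstance
  obtain ⟨s, hs⟩ := exists_lift_generators K M φ'
  refine ⟨s, Set.eq_empty_iff_forall_notMem.2 fun p ⟨hp, hpC⟩ => hs p ?_ hp⟩
  intro x hx
  exact (PrimeSpectrum.mem_vanishingIdeal C x).1 hx p hpC

theorem exists_generators_of_flag (M : ModuleCat.{u} R) [Module.Finite R M] {N m : ℕ}
    {U : Fin m → Scheme.{u}} (f : ∀ k, U k ⟶ Spec R)
    (hgen : ∀ k, ∃ φ : FlatMod.freeMod (U k) N ⟶ (Scheme.Modules.pullback (f k)).obj (tilde M), Epi φ)
    (Z : Fin (m + 1) → Set (PrimeSpectrum R)) (h0 : Z 0 = ∅) (h1 : Z (Fin.last m) = Set.univ)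
    (hZ : ∀ k, IsClosed (Z k))
    (hsect : ∀ k : Fin m, ∃ (T : Scheme.{u}) (g : T ⟶ Spec R) (s : T ⟶ U k),
      IsImmersion g ∧ Set.range (fun t : T => g t) = Z k.succ \ Z k.castSucc ∧ s ≫ f k = g) :
    ∃ s : Fin (N * m) → M, Submodule.span R (Set.range s) = ⊤ := by
  classical
  have key : ∀ k : Fin (m + 1), ∃ S : Finset M, S.card ≤ N * k.val ∧
      Module.support R (M ⧸ Submodule.span R (S : Set M)) ∩ Z k = ∅ := by
    intro k
    induction k using Fin.induction with
    | zero => exact ⟨∅, le_of_eq_of_le (Finset.card_empty) (Nat.zero_le _), by rw [h0, Set.inter_empty]⟩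
    | succ k ih =>
      obtain ⟨S, hS, hsupp⟩ := ih
      obtain ⟨T, g, σ, hi, hr, hσ⟩ := hsect k
      haveI := hi
      let C : Set (PrimeSpectrum R) := Module.support R (M ⧸ Submodule.span R (S : Set M)) ∩ Z k.succ
      have hCcl : IsClosed C := (Module.support_eq_zeroLocus (R := R) (M := M ⧸ Submodule.span R (S : Set M)) ▸ PrimeSpectrum.isClosed_zeroLocus _).inter (hZ _)
      have hCT : C ⊆ Set.range (fun t => g t) := fun p hp =>
        hr.ge ⟨hp.2, fun h => Set.eq_empty_iff_forall_notMem.1 hsupp p ⟨hp.1, h⟩⟩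
      obtain ⟨φ, hφ⟩ := hgen k
      obtain ⟨s, hs⟩ := exists_generators_on_closed (f k) M φ g σ hσ hCcl hCT
      refine ⟨S ∪ Finset.univ.image s, ?_, Set.eq_empty_iff_forall_notMem.2 fun p ⟨hp, hpZ⟩ => ?_⟩
      · refine (Finset.card_union_le _ _).trans ?_
        rw [Fin.val_succ, Nat.mul_succ]
        exact Nat.add_le_add hS (Finset.card_image_le.trans (Finset.card_fin N).le)
      · have h1 : p ∈ Module.support R (M ⧸ Submodule.span R (S : Set M)) :=
          Module.support_subset_of_surjective (Submodule.factor (Submodule.span_mono (by simp)))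
            (Submodule.factor_surjective _) hp
        refine Set.eq_empty_iff_forall_notMem.1 hs p ⟨?_, h1, hpZ⟩
        exact Module.support_subset_of_surjective (Submodule.factor (Submodule.span_mono (by simp)))
            (Submodule.factor_surjective _) hp
  obtain ⟨S, hS, hsupp⟩ := key (Fin.last m)
  rw [h1, Set.inter_univ, Module.support_eq_empty_iff, Submodule.Quotient.subsingleton_iff] at hsupp
  rw [Fin.val_last] at hS
  refine ⟨fun i => if h : i.val < S.card then (S.equivFin.symm ⟨i.val, h⟩ : M) else 0, ?_⟩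
  refine top_le_iff.1 (hsupp.ge.trans (Submodule.span_mono fun x hx => ?_))
  refine ⟨⟨(S.equivFin ⟨x, hx⟩).val, (S.equivFin ⟨x, hx⟩).isLt.trans_le hS⟩, ?_⟩
  simp

end Groth.Agent.Nis27
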