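import Groth.Prelude.Def_Mor2
import Mathlib.AlgebraicGeometry.PullbackCarrier

/-!
# Uniform affine covers of base changes to affine schemes
-/

set_option autoImplicit false
universe u

open CategoryTheory CategoryTheory.Limits AlgebraicGeometry

noncomputable section

namespace Groth.Agent.Nis27

/-- A cover of an affine scheme pulled back from a finite cover is refined by basic opens with the same index. -/
theorem exists_basicOpen_refinement {B : CommRingCat.{u}} {r : ℕ} (O : Fin r → TopologicalSpace.Opens (PrimeSpectrum B)) (hO : ⨆ i, O i = ⊤) :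
    ∃ a : Fin r → B, (∀ i, PrimeSpectrum.basicOpen (a i) ≤ O i) ∧ ⨆ i, PrimeSpectrum.basicOpen (a i) = ⊤ := by
  let I : Fin r → Ideal B := fun i => PrimeSpectrum.vanishingIdeal ((O i : Set (PrimeSpectrum B))ᶜ)
  have htop : ⨆ i, I i = ⊤ := by
    by_contra h
    obtain ⟨M, hM, hle⟩ := Ideal.exists_le_maximal _ h
    obtain ⟨i, hi⟩ := TopologicalSpace.Opens.mem_iSup.1 (hO.ge (trivial : (⟨M, hM.isPrime⟩ : PrimeSpectrum B) ∈ (⊤ : TopologicalSpace.Opens (PrimeSpectrum B))))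
    have h2 : (⟨M, hM.isPrime⟩ : PrimeSpectrum B) ∈ PrimeSpectrum.zeroLocus (I i : Set B) :=
      fun x hx => hle (le_iSup I i hx)
    have h3 : (⟨M, hM.isPrime⟩ : PrimeSpectrum B) ∈ ((O i : Set (PrimeSpectrum B))ᶜ) := by
      rwa [PrimeSpectrum.zeroLocus_vanishingIdeal_eq_closure, (O i).isOpen.isClosed_compl.closure_eq] at h2
    exact h3 hi
  obtain ⟨f, hf, hsum⟩ := (Submodule.mem_iSup_iff_exists_finsupp I (1 : B)).1 (htop ▸ Submodule.mem_top)
  refine ⟨fun i => f i, fun i x hx => ?_, ?_⟩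
  · by_contra hxO
    exact hx ((PrimeSpectrum.mem_vanishingIdeal _ _).1 (hf i) x hxO)
  · rw [PrimeSpectrum.iSup_basicOpen_eq_top_iff, Ideal.eq_top_iff_one, ← hsum]
    exact Submodule.sum_mem _ fun i _ => Ideal.subset_span ⟨i, rfl⟩

theorem exists_uniform_affine_cover {W Y : Scheme.{u}} (j : W ⟶ Y) [QuasiCompact j] [CompactSpace Y] :
    ∃ m : ℕ, ∀ (B : CommRingCat.{u}) (g : Spec B ⟶ Y),
      ∃ U : Fin m → (Limits.pullback j g).Opens, (∀ k, IsAffineOpen (U k)) ∧ ⨆ k, U k = ⊤ := by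
  classical
  obtain ⟨𝒱, h𝒱f, h𝒱⟩ : ∃ 𝒱 : Set Y.Opens, 𝒱.Finite ∧ (∀ V ∈ 𝒱, IsAffineOpen V) ∧ ∀ y : Y, ∃ V ∈ 𝒱, y ∈ V := by
    choose V hV hyV using fun y : Y => exists_isAffineOpen_mem_and_subset (x := y) (U := ⊤) trivial
    obtain ⟨t, ht⟩ := isCompact_univ.elim_finite_subcover (fun y : Y => (V y : Set Y)) (fun y => (V y).isOpen)
      (fun y _ => Set.mem_iUnion.2 ⟨y, (hyV y).1⟩)
    refine ⟨V '' t, t.finite_toSet.image V, ?_, fun y => ?_⟩
    · rintro _ ⟨y, -, rfl⟩; exact hV y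
    · obtain ⟨i, hi, hy⟩ := Set.mem_iUnion₂.1 (ht (Set.mem_univ y))
      exact ⟨V i, ⟨i, hi, rfl⟩, hy⟩
  haveI := h𝒱f.fintype
  let e := Fintype.equivFin 𝒱
  let V : Fin (Fintype.card 𝒱) → Y.Opens := fun i => (e.symm i).1
  have hVa : ∀ i, IsAffineOpen (V i) := fun i => h𝒱.1 _ (e.symm i).2
  have hVc : ∀ y, ∃ i, y ∈ V i := fun y => by
    obtain ⟨U, hU, hy⟩ := h𝒱.2 y
    exact ⟨e ⟨U, hU⟩, by simpa [V] using hy⟩
  -- affine covers of the preimages
  have hW : ∀ i, ∃ S : Set W.Opens, S.Finite ∧ (∀ P ∈ S, IsAffineOpen P ∧ P ≤ j ⁻¹ᵁ (V i)) ∧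
      ∀ w, j w ∈ V i → ∃ P ∈ S, w ∈ P := by
    intro i
    choose P hP hwP using fun w : {w : W // j w ∈ V i} =>
      exists_isAffineOpen_mem_and_subset (x := w.1) (U := j ⁻¹ᵁ (V i)) w.2
    have hc : IsCompact ((j ⁻¹ᵁ (V i)) : Set W) := QuasiCompact.isCompact_preimage _ (V i).isOpen (hVa i).isCompact
    obtain ⟨t, ht⟩ := hc.elim_finite_subcover (fun w => (P w : Set W)) (fun w => (P w).isOpen)
      (fun w hw => Set.mem_iUnion.2 ⟨⟨w, hw⟩, (hwP ⟨w, hw⟩).1⟩)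
    refine ⟨P '' t, t.finite_toSet.image P, ?_, fun w hw => ?_⟩
    · rintro _ ⟨w, -, rfl⟩; exact ⟨hP w, (hwP w).2⟩
    · obtain ⟨k, hk, hw'⟩ := Set.mem_iUnion₂.1 (ht hw)
      exact ⟨P k, ⟨k, hk, rfl⟩, hw'⟩
  choose S hSf hS hScov using hW
  haveI : ∀ i, Fintype (S i) := fun i => (hSf i).fintype
  refine ⟨Fintype.card (Σ i, S i), fun B g => ?_⟩
  obtain ⟨a, ha, hatop⟩ := exists_basicOpen_refinement (fun i => g ⁻¹ᵁ (V i))
    (eq_top_iff.2 fun x _ => TopologicalSpace.Opens.mem_iSup.2 (hVc (g x)))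
  let D : Fin (Fintype.card 𝒱) → (Spec B).Opens := fun i => PrimeSpectrum.basicOpen (a i)
  let O : (Σ i, S i) → (pullback j g).Opens := fun p =>
    (pullback.fst j g ⁻¹ᵁ p.2.1) ⊓ (pullback.snd j g ⁻¹ᵁ D p.1)
  have hO : ∀ p, IsAffineOpen (O p) := fun ⟨i, P, hP⟩ => by
    haveI : IsAffine P := (hS i P hP).1
    haveI : IsAffine (V i) := hVa i
    haveI : IsAffine (D i) := IsAffineOpen.Spec_basicOpen (a i)
    let f' : (P : Scheme.{u}) ⟶ V i := IsOpenImmersion.lift (V i).ι (P.ι ≫ j) (by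
      rw [Scheme.Opens.range_ι]
      rintro _ ⟨w, rfl⟩
      exact (hS i P hP).2 w.2)
    let g' : (D i : Scheme.{u}) ⟶ V i := IsOpenImmersion.lift (V i).ι ((D i).ι ≫ g) (by
      rw [Scheme.Opens.range_ι]
      rintro _ ⟨x, rfl⟩
      exact ha i x.2)
    let φ := pullback.map f' g' j g P.ι (D i).ι (V i).ι (IsOpenImmersion.lift_fac _ _ _) (IsOpenImmersion.lift_fac _ _ _)
    have h : (φ.opensRange : Set ↑(pullback j g)) = (O ⟨i, P, hP⟩ : Set ↑(pullback j g)) := by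
      show Set.range φ = _
      rw [Scheme.Pullback.range_map, Scheme.Opens.range_ι, Scheme.Opens.range_ι]
      rfl
    exact TopologicalSpace.Opens.ext h ▸ isAffineOpen_opensRange φ
  refine ⟨fun k => O ((Fintype.equivFin _).symm k), fun k => hO _, eq_top_iff.2 fun z _ => ?_⟩
  obtain ⟨i, hi⟩ := TopologicalSpace.Opens.mem_iSup.1
    (hatop.ge (trivial : pullback.snd j g z ∈ (⊤ : (Spec B).Opens)))
  have hjz : j (pullback.fst j g z) ∈ V i := by
    rw [← Scheme.Hom.comp_apply, pullback.condition, Scheme.Hom.comp_apply]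
    exact ha i hi
  obtain ⟨P, hP, hzP⟩ := hScov i _ hjz
  exact TopologicalSpace.Opens.mem_iSup.2 ⟨Fintype.equivFin _ ⟨i, P, hP⟩, by
    show z ∈ O ((Fintype.equivFin _).symm (Fintype.equivFin _ ⟨i, P, hP⟩))
    rw [Equiv.symm_apply_apply]; exact ⟨hzP, hi⟩⟩

end Groth.Agent.Nis27
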